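import Cfsg.Agent.H7.ZassKernel
import Cfsg.Agent.H50.InvolutionCAField

/-!
A Zassenhaus configuration with abelian kernel whose two-point stabiliser is abelian, sharply transitive on the
other points and inverted by an element exchanging the two points is `PGL₂(q)`.
-/

set_option autoImplicit false
set_option linter.style.haveILetI false

namespace Cfsg.Agent.H77.TIInv

open MulAction OnePoint Matrix

universe u v

variable {G : Type u} {Ω : Type v} [Group G] [MulAction G Ω] [Fintype Ω] {a b : Ω} {U : Subgroup G}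

theorem pgl_of_full (K : H7.ZK G a b U) (hU : ∀ x ∈ U, ∀ y ∈ U, x * y = y * x)
    (hcomm : ∀ h ∈ stabilizer G a ⊓ stabilizer G b, ∀ k ∈ stabilizer G a ⊓ stabilizer G b, h * k = k * h)
    (hcard : Fintype.card Ω = Nat.card ↥(stabilizer G a ⊓ stabilizer G b) + 2)
    (hswap : ∃ t : G, t • a = b ∧ t • b = a ∧ ∀ h ∈ stabilizer G a ⊓ stabilizer G b, t * h * t⁻¹ = h⁻¹) :
    ∃ (F : Type) (_ : Field F) (_ : Fintype F), Fintype.card F = Nat.card U ∧
      Nonempty (G ≃* (GL (Fin 2) F ⧸ Subgroup.center (GL (Fin 2) F))) := by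
  classical
  haveI := K.z.finite
  haveI := K.z.faithful
  obtain ⟨t, ta, tb, tinv⟩ := hswap
  set H := stabilizer G a ⊓ stabilizer G b with hH
  have hcU : Nat.card U + 1 = Fintype.card Ω := by rw [← Nat.card_eq_fintype_card]; exact K.card_U
  letI : CommGroup U := { (inferInstance : Group U) with
    mul_comm := fun x y => Subtype.ext (hU x.1 x.2 y.1 y.2) }
  let φ : H → AddMonoid.End (Additive U) := fun h =>
    ({ toFun := fun x => ⟨h.1 * x.1 * h.1⁻¹, K.conj h.1 h.2.1 x.1 x.2⟩
       map_one' := Subtype.ext (by simp)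
       map_mul' := fun x y => Subtype.ext (by simp [mul_assoc]) } : U →* U).toAdditive
  have hφ : ∀ (h : H) (x : Additive U), ((φ h x).toMul : G) = h.1 * (x.toMul : G) * h.1⁻¹ := fun h x => rfl
  have hext : ∀ x y : Additive U, ((x.toMul : U) : G) = ((y.toMul : U) : G) → x = y := fun x y e =>
    Additive.toMul.injective (Subtype.ext e)
  have h1 : 1 < Nat.card U := by
    have : 0 < Nat.card H := Nat.card_pos
    omega
  obtain ⟨t₀, ht₀U, ht₀⟩ := (Subgroup.bot_or_exists_ne_one U).resolve_left ((Subgroup.one_lt_card_iff_ne_bot U).1 h1)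
  set T₀ : Additive U := Additive.ofMul ⟨t₀, ht₀U⟩ with hT₀
  have hcb : ∀ {u : G}, u ∈ U → u ≠ 1 → u • b ≠ b := fun hu hne e => hne (K.free hu K.ne.symm e)
  have hsm : ∀ (h : H) (u : G), h.1 • (u • b) = (h.1 * u * h.1⁻¹) • b := fun h u => by
    rw [mul_smul, mul_smul, inv_smul_eq_iff.2 (show b = h.1 • b from h.2.2.symm)]
  have htrans : ∀ x : Additive U, x ≠ 0 → ∃ h, φ h T₀ = x := by
    intro x hx
    have hinj : Function.Injective (fun h : H => (⟨φ h T₀, fun e => ht₀ (by
        have e' := congrArg (fun y : Additive U => ((y.toMul : U) : G)) e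
        simp only [hφ, toMul_zero, OneMemClass.coe_one] at e'
        exact conj_eq_one_iff.1 e')⟩ : {y : Additive U // y ≠ 0})) := by
      intro h k e
      have e' : h.1 * t₀ * h.1⁻¹ = k.1 * t₀ * k.1⁻¹ :=
        congrArg (fun y : {y : Additive U // y ≠ 0} => ((y.1.toMul : U) : G)) e
      have e'' : h.1 • (t₀ • b) = k.1 • (t₀ • b) := by rw [hsm, hsm, e']
      refine Subtype.ext (inv_mul_eq_one.1 (K.z.three (k.1⁻¹ * h.1) a b (t₀ • b) K.ne (hcb ht₀U ht₀).symm
        (K.smul_ne ht₀U K.ne.symm).symm ?_ ?_ ?_)).symm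
      · rw [mul_smul, h.2.1, inv_smul_eq_iff, k.2.1]
      · rw [mul_smul, h.2.2, inv_smul_eq_iff, k.2.2]
      · rw [mul_smul, e'', inv_smul_smul]
    have hb : Function.Bijective _ := hinj.bijective_of_nat_card_le (by
      have h2 : Nat.card {y : Additive U // y ≠ 0} + 1 = Nat.card U := by
        haveI := Fintype.ofFinite (Additive U)
        rw [Nat.card_eq_fintype_card, Fintype.card_subtype_compl, Fintype.card_subtype_eq,
          ← Nat.card_eq_fintype_card, show Nat.card (Additive U) = Nat.card U from rfl]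
        omega
      omega)
    obtain ⟨h, hh⟩ := hb.2 ⟨x, hx⟩
    exact ⟨h, congrArg Subtype.val hh⟩
  obtain ⟨F, iF, e, he1, hef, heg⟩ := H50.exists_field_of_transitive T₀ (fun e => ht₀ (congrArg (fun y : Additive U => ((y.toMul : U) : G)) e)) φ
    ⟨1, AddMonoidHom.ext fun x => hext _ _ (by
      show (1 : G) * (x.toMul : G) * (1 : G)⁻¹ = (x.toMul : G)
      simp)⟩
    (fun i j => AddMonoidHom.ext fun x => hext _ _ (by
      show i.1 * (j.1 * (x.toMul : G) * j.1⁻¹) * i.1⁻¹ = j.1 * (i.1 * (x.toMul : G) * i.1⁻¹) * j.1⁻¹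
      rw [show i.1 * (j.1 * (x.toMul : G) * j.1⁻¹) * i.1⁻¹ = (i.1 * j.1) * (x.toMul : G) * (i.1 * j.1)⁻¹ by group,
        hcomm i.1 i.2 j.1 j.2]
      group))
    (fun i x hx => hext _ _ (by
      have e' := congrArg (fun y : Additive U => ((y.toMul : U) : G)) hx
      simp only [hφ, toMul_zero, OneMemClass.coe_one] at e' ⊢
      exact conj_eq_one_iff.1 e'))
    htrans
  haveI : Finite F := Finite.of_injective e e.injective
  haveI := Fintype.ofFinite F
  have hFcard : Fintype.card F = Nat.card U := by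
    rw [← Nat.card_eq_fintype_card, Nat.card_congr e.toEquiv]
    rfl
  let T : F → G := fun x => ((e x).toMul : U)
  have hTU : ∀ x, T x ∈ U := fun x => ((e x).toMul : U).2
  have hTadd : ∀ x y, T (x + y) = T x * T y := fun x y => by
    show (((e (x + y)).toMul : U) : G) = _
    rw [map_add]
    rfl
  have hT0 : T 0 = 1 := by
    show (((e 0).toMul : U) : G) = 1
    rw [map_zero]
    rfl
  have hTinj : Function.Injective T := fun x y h => e.injective (hext _ _ h)
  have hTsurj : ∀ u ∈ U, ∃ x, T x = u := fun u hu => by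
    obtain ⟨x, hx⟩ := e.surjective (Additive.ofMul ⟨u, hu⟩)
    exact ⟨x, by show (((e x).toMul : U) : G) = u; rw [hx]; rfl⟩
  -- coordinates
  let E : OnePoint F → Ω := fun o => OnePoint.elim o a fun x => T x • b
  have hEbij : Function.Bijective E := by
    rw [Fintype.bijective_iff_injective_and_card]
    refine ⟨?_, ?_⟩
    · intro o o' h
      cases o with
      | infty => cases o' with
        | infty => rfl
        | coe y => exact absurd h.symm (K.smul_ne (hTU y) K.ne.symm)
      | coe x => cases o' with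
        | infty => exact absurd h (K.smul_ne (hTU x) K.ne.symm)
        | coe y => exact congrArg _ (hTinj (K.injective (hTU x) (hTU y) h))
    · rw [show Fintype.card (OnePoint F) = Fintype.card F + 1 from Fintype.card_option, hFcard, hcU]
  let E' : OnePoint F ≃ Ω := Equiv.ofBijective E hEbij
  let ρ : G →* Equiv.Perm (OnePoint F) :=
    { toFun := fun g => (E'.trans (MulAction.toPerm g)).trans E'.symm
      map_one' := by ext x; simp
      map_mul' := fun g k => by ext x; simp [mul_smul] }
  have hρ : ∀ g x, E (ρ g x) = g • E x := fun g x => E'.apply_symm_apply _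
  have hρinj : Function.Injective ρ := by
    rw [injective_iff_map_eq_one]
    intro g hg
    refine FaithfulSMul.eq_of_smul_eq_smul (α := Ω) fun w => ?_
    obtain ⟨o, rfl⟩ := hEbij.2 w
    rw [← hρ, hg, one_smul]; rfl
  have hEi : E ∞ = a := rfl
  have hEs : ∀ x : F, E (x : OnePoint F) = T x • b := fun x => rfl
  have hE0 : E ((0 : F) : OnePoint F) = b := by rw [hEs, hT0, one_smul]
  let μ : GL (Fin 2) F →* Equiv.Perm (OnePoint F) := MulAction.toPermHom _ _
  have hμ : ∀ A o, μ A o = A • o := fun A o => rfl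
  let mTr : F → GL (Fin 2) F := fun x => GeneralLinearGroup.mkOfDetNeZero !![1, x; 0, 1] (by simp [det_fin_two])
  let mDg : ∀ c : F, c ≠ 0 → GL (Fin 2) F := fun c hc =>
    GeneralLinearGroup.mkOfDetNeZero !![c, 0; 0, 1] (by simp [det_fin_two, hc])
  let mSw : ∀ k : F, k ≠ 0 → GL (Fin 2) F := fun k hk =>
    GeneralLinearGroup.mkOfDetNeZero !![0, k; 1, 0] (by simp [det_fin_two, hk])
  have hρT : ∀ x, ρ (T x) = μ (mTr x) := fun x => Equiv.ext fun o => hEbij.1 (by
    rw [hρ, hμ]
    cases o with
    | infty => rw [hEi, K.smul_a (hTU x), smul_infty_eq_self_iff.2 (by simp [mTr]), hEi]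
    | coe v =>
      rw [smul_some_eq_ite, if_neg (by simp [mTr]), hEs, hEs, ← mul_smul, ← hTadd]
      simp [mTr, add_comm])
  have hH' : ∀ h : H, ∃ (c : F) (hc : c ≠ 0), ρ h.1 = μ (mDg c hc) := by
    intro h
    obtain ⟨c, hc, hcm⟩ := hef h
    refine ⟨c, hc, Equiv.ext fun o => hEbij.1 ?_⟩
    rw [hρ, hμ]
    cases o with
    | infty => rw [hEi, show h.1 • a = a from h.2.1, smul_infty_eq_self_iff.2 (by simp [mDg]), hEi]
    | coe v =>
      rw [smul_some_eq_ite, if_neg (by simp [mDg]), hEs, hEs, hsm, show h.1 * T v * h.1⁻¹ = T (c * v) by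
        show h.1 * (((e v).toMul : U) : G) * h.1⁻¹ = (((e (c * v)).toMul : U) : G)
        rw [← hcm, hφ]]
      simp [mDg]
  obtain ⟨k, hk, hρt⟩ : ∃ (k : F) (hk : k ≠ 0), ρ t = μ (mSw k hk) := by
    have hne : t • E ((1 : F) : OnePoint F) ≠ a := fun e' =>
      hcb (hTU 1) (fun e'' => one_ne_zero (hTinj (e''.trans hT0.symm)))
        (smul_left_cancel t (e'.trans tb.symm))
    obtain ⟨o, ho⟩ := hEbij.2 (t • E ((1 : F) : OnePoint F))
    induction o using OnePoint.rec with
    | infty => exact absurd (ho.symm.trans hEi) hne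
    | coe k =>
      have hk : k ≠ 0 := by
        rintro rfl
        rw [hE0, ← ta] at ho
        exact OnePoint.infty_ne_coe _ (hEbij.1 (hEi.trans (smul_left_cancel t ho)))
      refine ⟨k, hk, Equiv.ext fun o => hEbij.1 ?_⟩
      rw [hρ, hμ]
      cases o with
      | infty =>
        rw [hEi, ta, smul_infty_eq_ite]
        simp [mSw, hE0]
      | coe v =>
        rw [smul_some_eq_ite]
        by_cases hv : v = 0
        · subst hv
          rw [if_pos (by simp [mSw]), hE0, tb, hEi]
        · rw [if_neg (by simp [mSw, hv])]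
          obtain ⟨h, hh⟩ := heg v hv
          have h3 : E (v : OnePoint F) = h.1 • E ((1 : F) : OnePoint F) := by
            rw [hEs, hEs, hsm]
            congr 1
            show (((e v).toMul : U) : G) = _
            rw [← hφ, hh, mul_one]
          have h4 : t • E (v : OnePoint F) = h.1⁻¹ • E (k : OnePoint F) := by
            rw [h3, ← mul_smul, show t * h.1 = (t * h.1 * t⁻¹) * t by group, tinv h.1 h.2, mul_smul, ← ho]
          rw [h4, inv_smul_eq_iff, hEs, hEs, hsm]
          congr 1
          show _ = h.1 * (((e _).toMul : U) : G) * h.1⁻¹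
          rw [← hφ, hh]
          show (((e k).toMul : U) : G) = _
          congr 4
          simp [mSw]
          field_simp
  -- the image
  have hmem : ∀ g, g • a = a → ρ g ∈ μ.range := by
    intro g hg
    obtain ⟨u, hu, hub⟩ := K.reach (y := g • b) (fun e' => K.ne (smul_left_cancel g (hg.trans e'.symm)))
    obtain ⟨x, rfl⟩ := hTsurj u hu
    obtain ⟨c, hc, hcρ⟩ := hH' ⟨(T x)⁻¹ * g,
      (show ((T x)⁻¹ * g) • a = a by rw [mul_smul, hg, inv_smul_eq_iff, K.smul_a (hTU x)]),
      (show ((T x)⁻¹ * g) • b = b by rw [mul_smul, inv_smul_eq_iff, hub])⟩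
    refine ⟨mTr x * mDg c hc, ?_⟩
    rw [map_mul, ← hρT, ← hcρ, ← map_mul, mul_inv_cancel_left]
  have hdiag : ∀ c : F, ∀ hc : c ≠ 0, ∃ h : G, ρ h = μ (mDg c hc) := by
    intro c hc
    obtain ⟨h, hh⟩ := heg c hc
    obtain ⟨c', hc', hcρ⟩ := hH' h
    refine ⟨h.1, ?_⟩
    have hcc : c' = c := by
      have h5 : E (ρ h.1 ((1 : F) : OnePoint F)) = E ((c : F) : OnePoint F) := by
        rw [hρ, hEs, hEs, hsm]
        congr 1
        show _ = (((e c).toMul : U) : G)
        rw [← hφ, hh, mul_one]
      have h6 := hEbij.1 h5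
      rw [hcρ, hμ, smul_some_eq_ite, if_neg (by simp [mDg])] at h6
      simpa [mDg] using h6
    subst hcc
    exact hcρ
  have hrange : ρ.range = μ.range := by
    refine le_antisymm ?_ ?_
    · rintro _ ⟨g, rfl⟩
      by_cases hg : g • a = a
      · exact hmem g hg
      · obtain ⟨u, hu, hub⟩ := K.reach hg
        obtain ⟨x, rfl⟩ := hTsurj u hu
        have h7 := hmem (t * (T x)⁻¹ * g) (by
          rw [mul_smul, mul_smul, show (T x)⁻¹ • (g • a) = b from inv_smul_eq_iff.2 hub.symm, tb])
        rw [map_mul] at h7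
        refine (Subgroup.mul_mem_cancel_left _ ?_).1 h7
        rw [map_mul, map_inv, hρt, hρT]
        exact mul_mem ⟨_, rfl⟩ (inv_mem ⟨_, rfl⟩)
    · rintro _ ⟨A, rfl⟩
      have hfix : ∀ B : GL (Fin 2) F, B 1 0 = 0 → μ B ∈ ρ.range := by
        intro B hB
        have hdet := B.det_ne_zero
        rw [det_fin_two, show B.val 1 0 = 0 from hB, mul_zero, sub_zero] at hdet
        obtain ⟨h0, h11⟩ := mul_ne_zero_iff.1 hdet
        obtain ⟨h, hh⟩ := hdiag (B 0 0 / B 1 1) (div_ne_zero h0 h11)
        refine ⟨T (B 0 1 / B 1 1) * h, Equiv.ext fun o => ?_⟩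
        rw [map_mul, hρT, hh, ← map_mul, hμ, hμ, mul_smul]
        cases o with
        | infty => rw [smul_infty_eq_self_iff.2 (by simp [mDg]), smul_infty_eq_self_iff.2 (by simp [mTr]),
            smul_infty_eq_self_iff.2 hB]
        | coe v =>
          rw [smul_some_eq_ite, if_neg (by simp [mDg]), smul_some_eq_ite, if_neg (by simp [mTr]), smul_some_eq_ite,
            if_neg (by rw [hB]; simpa using h11)]
          simp [mTr, mDg, hB]
          field_simp
      by_cases hA : A 1 0 = 0
      · exact hfix A hA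
      · have h8 := hfix (mSw k hk * (mTr (-(A 0 0 / A 1 0))) * A) (by
          simp [mSw, mTr, Matrix.GeneralLinearGroup.coe_mul, Matrix.mul_apply, Fin.sum_univ_two]
          field_simp
          ring)
        rw [map_mul, map_mul, ← hρt, ← hρT] at h8
        exact (Subgroup.mul_mem_cancel_left ρ.range
          (mul_mem (MonoidHom.mem_range.2 ⟨t, rfl⟩) (MonoidHom.mem_range.2 ⟨_, rfl⟩))).1 h8
  have hker : μ.ker = Subgroup.center (GL (Fin 2) F) := by
    ext A
    rw [MonoidHom.mem_ker, GeneralLinearGroup.mem_center_iff_val_mem_range_scalar]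
    constructor
    · intro h
      have hA : ∀ o : OnePoint F, A • o = o := fun o => by rw [← hμ, h]; rfl
      have h10 : A 1 0 = 0 := smul_infty_eq_self_iff.1 (hA ∞)
      have hdet := A.det_ne_zero
      rw [det_fin_two, show A.val 1 0 = 0 from h10, mul_zero, sub_zero] at hdet
      obtain ⟨-, h11⟩ := mul_ne_zero_iff.1 hdet
      have hv : ∀ v : F, (A 0 0 * v + A 0 1) / A 1 1 = v := fun v => by
        have := hA (v : OnePoint F)
        rw [smul_some_eq_ite, h10, zero_mul, zero_add, if_neg h11] at this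
        exact OnePoint.coe_eq_coe.1 this
      have h01 : A 0 1 = 0 := by simpa [h11] using hv 0
      have h00 : A 0 0 = A 1 1 := by
        have := hv 1
        rw [h01, div_eq_iff h11] at this
        simpa using this
      refine ⟨A 0 0, ?_⟩
      ext i j
      fin_cases i <;> fin_cases j <;> simp [h10, h01, h00]
    · rintro ⟨r, hr⟩
      have hdet := A.det_ne_zero
      rw [← hr] at hdet
      have hr0 : r ≠ 0 := by rintro rfl; simp [det_fin_two] at hdet
      refine Equiv.ext fun o => ?_
      rw [hμ]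
      cases o with
      | infty => rw [smul_infty_eq_self_iff.2 (by simp [← hr])]; rfl
      | coe v => rw [smul_some_eq_ite, if_neg (by simp [← hr, hr0])]; simp [← hr, hr0]
  exact ⟨F, iF, inferInstance, hFcard,
    ⟨((MonoidHom.ofInjective hρinj).trans (MulEquiv.subgroupCongr hrange)).trans
      ((QuotientGroup.quotientKerEquivRange μ).symm.trans (QuotientGroup.quotientMulEquivOfEq hker))⟩⟩

end Cfsg.Agent.H77.TIInv
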